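import Groth.Agent.Comp38.Lift
import Groth.Agent.SchBasics.TopNoeth
import Groth.Agent.AlgGrp79.SepDense
import Groth.Prelude.Def_SGA7IX
import Mathlib

/-! The component group of the special fibre over a strictly henselian base. -/

set_option autoImplicit false
universe u

open CategoryTheory CategoryTheory.Limits MonoidalCategory CartesianMonoidalCategory MonObj AlgebraicGeometry
open TopologicalSpace

namespace Groth.Agent.Comp38

theorem finite_connectedComponents (P : Type u) [TopologicalSpace P] [NoetherianSpace P] :
    Finite (_root_.ConnectedComponents P) := by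
  have : Finite (irreducibleComponents P) := NoetherianSpace.finite_irreducibleComponents.to_subtype
  let c : irreducibleComponents P → _root_.ConnectedComponents P := fun Z => ConnectedComponents.mk Z.2.1.1.choose
  refine Finite.of_surjective c fun z => ?_
  obtain ⟨x, rfl⟩ := ConnectedComponents.surjective_coe z
  let Z : irreducibleComponents P := ⟨irreducibleComponent x, irreducibleComponent_mem_irreducibleComponents x⟩
  refine ⟨Z, ConnectedComponents.coe_eq_coe'.2 ?_⟩
  exact isIrreducible_irreducibleComponent.isConnected.isPreconnected.subset_connectedComponent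
    mem_irreducibleComponent Z.2.1.1.choose_spec

variable {R : Type u} [CommRing R] [HenselianLocalRing R] [IsSepClosed (IsLocalRing.ResidueField R)]

theorem component_group (N : Over (Spec (CommRingCat.of R))) [GrpObj N] [Smooth N.hom] [QuasiCompact N.hom] :
    (Set.range (SGA7.secComp R N)).Finite ∧
    (∀ z ∈ SGA7.specialFibreSet R N, ∃ x : 𝟙_ (Over (Spec (CommRingCat.of R))) ⟶ N, z ∈ SGA7.secComp R N x) ∧
      ∀ x y : 𝟙_ (Over (Spec (CommRingCat.of R))) ⟶ N,
        SGA7.secComp R N x = SGA7.secComp R N y ↔ x * y⁻¹ ∈ SGA7.secUnitComp R N := by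
  let q := NeronHD28.closedPt R
  have : IsClosedImmersion q := IsClosedImmersion.spec_of_surjective _ IsLocalRing.residue_surjective
  let Xk := pullback N.hom q
  let p : Xk ⟶ N.left := pullback.fst N.hom q
  have hemb : Topology.IsEmbedding p := (pullback.fst N.hom q).isEmbedding
  let c := IsLocalRing.closedPoint (IsLocalRing.ResidueField R)
  have hpr : Set.range p = SGA7.specialFibreSet R N := by
    show Set.range (pullback.fst N.hom q) = _
    rw [Scheme.Pullback.range_fst]
    ext z
    simp only [Set.mem_preimage, SGA7.specialFibreSet, Set.mem_singleton_iff, Set.mem_range]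
    exact ⟨fun ⟨d, hd⟩ => hd.symm.trans (NeronHD28.closedPt_apply d),
      fun h => ⟨c, (NeronHD28.closedPt_apply c).trans h.symm⟩⟩
  have : IsNoetherian Xk := by
    have : IsLocallyNoetherian Xk := LocallyOfFiniteType.isLocallyNoetherian (pullback.snd N.hom q)
    have : CompactSpace Xk := QuasiCompact.compactSpace_of_compactSpace (pullback.snd N.hom q)
    constructor
  have hsp : ∀ x : 𝟙_ (Over (Spec (CommRingCat.of R))) ⟶ N,
      ∃ t : Xk, p t = x.left (IsLocalRing.closedPoint R) := fun x => by
    show x.left (IsLocalRing.closedPoint R) ∈ Set.range p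
    rw [hpr]
    show N.hom (x.left (IsLocalRing.closedPoint R)) = _
    rw [← Scheme.Hom.comp_apply, Over.w x]
    rfl
  choose t ht using hsp
  have hcomp : ∀ x, SGA7.secComp R N x = p '' connectedComponent (t x) := fun x => by
    show connectedComponentIn _ _ = _
    rw [← hpr, ← ht x, image_connectedComponent hemb]
  refine ⟨?_, fun z hz => ?_, fun x y => ?_⟩
  · have := finite_connectedComponents Xk
    refine ((Set.finite_range fun C : _root_.ConnectedComponents Xk => p '' connectedComponent C.exists_rep.choose).subset ?_)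
    rintro _ ⟨x, rfl⟩
    refine ⟨ConnectedComponents.mk (t x), ?_⟩
    rw [hcomp x]
    exact congrArg _ (ConnectedComponents.coe_eq_coe.1 (ConnectedComponents.mk (t x)).exists_rep.choose_spec)
  · rw [← hpr] at hz
    obtain ⟨tz, rfl⟩ := hz
    have : Smooth (pullback.snd N.hom q) := inferInstance
    obtain ⟨t', htC, s, hs, hst⟩ := (dense_iff_inter_open.1 (AlgGrp79.dense_secPts_of_smooth (pullback.snd N.hom q))) _
      (SchBasics.isOpen_connectedComponent_of_noetherianSpace tz) ⟨tz, mem_connectedComponent⟩
    obtain ⟨σ, hσ, hσc⟩ := NeronHD28.exists_section_of_smooth_henselian N.hom (s ≫ p)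
      (by rw [Category.assoc, pullback.condition, ← Category.assoc, hs, Category.id_comp])
    let x : 𝟙_ (Over (Spec (CommRingCat.of R))) ⟶ N := Over.homMk σ hσ
    refine ⟨x, ?_⟩
    have hx : t x = t' := hemb.injective (by
      rw [ht x]
      show σ (IsLocalRing.closedPoint R) = p t'
      rw [← NeronHD28.closedPt_apply c, ← Scheme.Hom.comp_apply, hσc, Scheme.Hom.comp_apply, hst])
    rw [hcomp x, hx, ← connectedComponent_eq htC]
    exact ⟨tz, mem_connectedComponent, rfl⟩
  · let e : N ≅ N :=
      { hom := 𝟙 N * (toUnit N ≫ y⁻¹)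
        inv := 𝟙 N * (toUnit N ≫ y)
        hom_inv_id := by
          simp only [MonObj.comp_mul, Category.comp_id, ← Category.assoc, comp_toUnit]
          rw [_root_.mul_assoc, ← MonObj.comp_mul, inv_mul_cancel, MonObj.comp_one, _root_.mul_one]
        inv_hom_id := by
          simp only [MonObj.comp_mul, Category.comp_id, ← Category.assoc, comp_toUnit]
          rw [_root_.mul_assoc, ← MonObj.comp_mul, mul_inv_cancel, MonObj.comp_one, _root_.mul_one] }
    let h : N.left ≃ₜ N.left := Scheme.homeoOfIso ((Over.forget _).mapIso e)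
    have hsf : h '' SGA7.specialFibreSet R N = SGA7.specialFibreSet R N := by
      have hh : ∀ z, N.hom (h z) = N.hom z := fun z => by
        show N.hom (e.hom.left z) = _
        rw [← Scheme.Hom.comp_apply, Over.w e.hom]
      ext z
      refine ⟨fun ⟨w, hw, hwz⟩ => ?_, fun hz => ⟨h.symm z, ?_, h.apply_symm_apply z⟩⟩
      · show N.hom z = _
        rw [← hwz, hh]
        exact hw
      · show N.hom (h.symm z) = _
        rw [← hh, h.apply_symm_apply]
        exact hz
    have hmem : ∀ w : 𝟙_ (Over (Spec (CommRingCat.of R))) ⟶ N,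
        w.left (IsLocalRing.closedPoint R) ∈ SGA7.specialFibreSet R N := fun w => by
      show N.hom (w.left (IsLocalRing.closedPoint R)) = _
      rw [← Scheme.Hom.comp_apply, Over.w w]
      rfl
    have him : ∀ w : 𝟙_ (Over (Spec (CommRingCat.of R))) ⟶ N,
        h '' SGA7.secComp R N w = SGA7.secComp R N (w * y⁻¹) := fun w => by
      show h '' connectedComponentIn _ _ = connectedComponentIn _ _
      have hw : w ≫ e.hom = w * y⁻¹ := by
        show w ≫ (𝟙 N * (toUnit N ≫ y⁻¹)) = _
        rw [MonObj.comp_mul, Category.comp_id, ← Category.assoc, Subsingleton.elim (w ≫ toUnit N) (𝟙 _), Category.id_comp]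
      rw [h.image_connectedComponentIn (hmem w), hsf, ← hw]
      rfl
    have h1 : SGA7.secComp R N x = SGA7.secComp R N y ↔
        SGA7.secComp R N (x * y⁻¹) = SGA7.secComp R N (1 : 𝟙_ _ ⟶ N) := by
      rw [← mul_inv_cancel y, ← him x, ← him y, h.injective.image_injective.eq_iff]
    rw [h1]
    show connectedComponentIn _ _ = connectedComponentIn _ _ ↔ _ ∈ connectedComponentIn _ _
    rw [← MonObj.one_eq_one]
    exact ⟨fun hh => hh ▸ mem_connectedComponentIn (hmem _), fun hh => (connectedComponentIn_eq hh).symm⟩

end Groth.Agent.Comp38
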