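import Groth.Agent.NeronHD28.Torsion
import Groth.Agent.Grp57.IdentityComponent
import Groth.Agent.Grp57.FgPoints
import Groth.Prelude.Def_SGA7IX
import Mathlib

/-! Torsion of the component group of a smooth group scheme over a strictly henselian ring. -/

set_option autoImplicit false
universe u

open CategoryTheory CategoryTheory.Limits MonoidalCategory CartesianMonoidalCategory MonObj AlgebraicGeometry

namespace Groth.Agent.Comp38

variable {k : Type u} [Field k]

/-- An invertible integer divides in the identity component over a separably closed field. -/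
theorem exists_root_in_component [IsSepClosed k] (G : Over (Spec (CommRingCat.of k))) [GrpObj G] [IsCommMonObj G]
    [Smooth G.hom] (n : ℕ) (hn : (n : k) ≠ 0) (b : 𝟙_ (Over (Spec (CommRingCat.of k))) ⟶ G)
    (hb : b.left (IsLocalRing.closedPoint k) ∈ connectedComponent (Grp57.unitPt G)) :
    ∃ z : 𝟙_ (Over (Spec (CommRingCat.of k))) ⟶ G,
      z.left (IsLocalRing.closedPoint k) ∈ connectedComponent (Grp57.unitPt G) ∧ z ^ n = b := by
  obtain ⟨G₀, _, incl, _, hcl, hfl, hrange, -, -⟩ := Grp57.exists_identityComponent G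
  have : IsLocallyNoetherian G.left := LocallyOfFiniteType.isLocallyNoetherian G.hom
  have : IsOpenImmersion incl.left := IsOpenImmersion.of_flat_of_mono _
  have : Mono incl := Over.mono_of_mono_left incl
  have : Smooth G₀.hom := by rw [← Over.w incl]; infer_instance
  have : IsCommMonObj G₀ := ⟨by
    rw [← cancel_mono incl]
    rw [Category.assoc, IsMonHom.mul_hom, ← BraidedCategory.braiding_naturality_assoc, IsCommMonObj.mul_comm]⟩
  have hr : Set.range b.left ⊆ Set.range incl.left := by
    rintro _ ⟨s, rfl⟩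
    rw [hrange, Subsingleton.elim (α := PrimeSpectrum k) s (IsLocalRing.closedPoint k)]
    exact hb
  let b₀ : 𝟙_ (Over (Spec (CommRingCat.of k))) ⟶ G₀ := Over.homMk (IsOpenImmersion.lift incl.left b.left hr) (by
    rw [← Over.w incl, IsOpenImmersion.lift_fac_assoc, Over.w])
  have hb₀ : b₀ ≫ incl = b := Over.OverMorphism.ext (IsOpenImmersion.lift_fac _ _ _)
  have hn' : ((n : ℤ) : k) ≠ 0 := by simpa using hn
  let f : G₀ ⟶ G₀ := 𝟙 G₀ ^ (n : ℤ)
  have := Grp57.etale_zpow G₀ (n : ℤ) hn'
  have hconn : _root_.IsPreconnected (Set.univ : Set G₀.left) := by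
    rw [← incl.left.isOpenEmbedding.isInducing.isPreconnected_image, Set.image_univ, hrange]
    exact isPreconnected_connectedComponent
  have : PreconnectedSpace G₀.left := ⟨hconn⟩
  have hsurj : Set.range f.left = Set.univ :=
    (Grp57.isClopen_range_zpow G₀ (n : ℤ) hn').eq_univ ⟨_, Grp57.unitPt G₀, rfl⟩
  have : Smooth f.left := inferInstance
  let q : pullback f.left b₀.left ⟶ Spec (CommRingCat.of k) := pullback.snd f.left b₀.left
  have : Smooth q := inferInstanceAs (Smooth (pullback.snd f.left b₀.left))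
  have : Nonempty (pullback f.left b₀.left : Scheme) := by
    have : IsLocalRing.closedPoint k ∈ Set.range (pullback.snd f.left b₀.left) := by
      rw [Scheme.Pullback.range_snd, hsurj]; trivial
    exact ⟨this.choose⟩
  obtain ⟨_, s, hs, -⟩ := (AlgGrp79.dense_secPts_of_smooth (K := k) q).nonempty
  have hw : b₀.left ≫ G₀.hom = 𝟙 _ := Over.w b₀
  let z₀ : 𝟙_ (Over (Spec (CommRingCat.of k))) ⟶ G₀ := Over.homMk (s ≫ pullback.fst f.left b₀.left) (by
    rw [← Over.w f, Category.assoc, pullback.condition_assoc, reassoc_of% hs]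
    exact hw)
  have hz : z₀ ≫ f = b₀ := by
    ext1
    simp only [z₀, Over.comp_left, Over.homMk_left, Category.assoc]
    rw [pullback.condition, reassoc_of% hs]
  refine ⟨z₀ ≫ incl, hrange ▸ ⟨z₀.left (IsLocalRing.closedPoint k), rfl⟩, ?_⟩
  rw [← MonObj.pow_comp, ← hb₀, ← hz]
  congr 1
  have h1 : f = (𝟙 G₀ : G₀ ⟶ G₀) ^ n := zpow_natCast _ _
  rw [h1, MonObj.comp_pow, Category.comp_id]

theorem image_connectedComponent {X Y : Type*} [TopologicalSpace X] [TopologicalSpace Y] {p : X → Y}
    (hp : Topology.IsEmbedding p) (e : X) :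
    p '' connectedComponent e = connectedComponentIn (Set.range p) (p e) := by
  refine Set.Subset.antisymm ((isPreconnected_connectedComponent.image p hp.continuous.continuousOn).subset_connectedComponentIn
    ⟨e, mem_connectedComponent, rfl⟩ (Set.image_subset_range _ _)) fun y hy => ?_
  obtain ⟨x, rfl⟩ := connectedComponentIn_subset _ _ hy
  refine ⟨x, ?_, rfl⟩
  have h : _root_.IsPreconnected (p ⁻¹' connectedComponentIn (Set.range p) (p e)) := by
    rw [← hp.isInducing.isPreconnected_image, Set.image_preimage_eq_of_subset (connectedComponentIn_subset _ _)]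
    exact isPreconnected_connectedComponentIn
  exact h.subset_connectedComponent (mem_connectedComponentIn ⟨e, rfl⟩) hy

variable {R : Type u} [CommRing R] [HenselianLocalRing R] [IsSepClosed (IsLocalRing.ResidueField R)]

theorem exists_torsion_in_coset (G : Over (Spec (CommRingCat.of R))) [GrpObj G] [IsCommMonObj G] [Smooth G.hom]
    (n : ℕ) (hn : (n : IsLocalRing.ResidueField R) ≠ 0)
    (x : 𝟙_ (Over (Spec (CommRingCat.of R))) ⟶ G) (hx : x ^ n ∈ SGA7.secUnitComp R G) :
    ∃ y : 𝟙_ (Over (Spec (CommRingCat.of R))) ⟶ G, y ^ n = 1 ∧ x * y⁻¹ ∈ SGA7.secUnitComp R G := by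
  let q := NeronHD28.closedPt R
  let F := Over.pullback q
  let adj := Over.mapPullbackAdj q
  let Gk := F.obj G
  have : IsCommMonObj Gk := Functor.isCommMonObj_obj
  have : Smooth Gk.hom := inferInstanceAs (Smooth (pullback.snd G.hom q))
  let P : Over (Spec (CommRingCat.of (IsLocalRing.ResidueField R))) := 𝟙_ _
  let Φ : ((Over.map q).obj P ⟶ G) →* (P ⟶ Gk) :=
    { toFun := fun b => adj.unit.app P ≫ F.map b
      map_one' := by rw [← MonObj.comp_one (adj.unit.app P)]; exact congrArg _ (F.homMonoidHom.map_one)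
      map_mul' := fun a b => by
        rw [← MonObj.comp_mul]
        exact congrArg _ (F.homMonoidHom.map_mul a b) }
  have hΦsurj : Function.Surjective Φ := fun b => ⟨(adj.homEquiv P G).symm b, by
    refine ((adj.homEquiv_unit (X := P) (Y := G) (f := (adj.homEquiv P G).symm b)).symm).trans ?_
    exact Equiv.apply_symm_apply _ _⟩
  have hΦinj : Function.Injective Φ := fun a b h => (adj.homEquiv P G).injective (by
    rw [adj.homEquiv_unit, adj.homEquiv_unit]; exact h)
  let p : Gk.left ⟶ G.left := pullback.fst G.hom q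
  have hΦpt : ∀ b, (Φ b).left ≫ p = b.left := fun b => by
    show (adj.unit.app P ≫ F.map b).left ≫ pullback.fst G.hom q = b.left
    have e : adj.unit.app P ≫ F.map b = adj.homEquiv P G b := (adj.homEquiv_unit P G b).symm
    rw [e]
    simp only [adj, Over.mapPullbackAdj, Adjunction.mkOfHomEquiv_homEquiv]
    exact pullback.lift_fst _ _ _
  let c := IsLocalRing.closedPoint (IsLocalRing.ResidueField R)
  have hpr : Set.range p = SGA7.specialFibreSet R G := by
    show Set.range (pullback.fst G.hom q) = _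
    rw [Scheme.Pullback.range_fst]
    ext z
    simp only [Set.mem_preimage, SGA7.specialFibreSet, Set.mem_singleton_iff, Set.mem_range]
    exact ⟨fun ⟨d, hd⟩ => hd.symm.trans (NeronHD28.closedPt_apply d),
      fun h => ⟨c, (NeronHD28.closedPt_apply c).trans h.symm⟩⟩
  have : IsClosedImmersion q := IsClosedImmersion.spec_of_surjective _ IsLocalRing.residue_surjective
  have hpemb : Topology.IsEmbedding p := (pullback.fst G.hom q).isEmbedding
  let R' : (Over.map q).obj P ⟶ 𝟙_ (Over (Spec (CommRingCat.of R))) := toUnit _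
  have hR' : R'.left = q := by
    show (toUnit ((Over.map q).obj P)).left = q
    rw [Over.toUnit_left]
    exact Category.id_comp q
  have hpt : ∀ (y : 𝟙_ (Over (Spec (CommRingCat.of R))) ⟶ G),
      p ((Φ (R' ≫ y)).left c) = y.left (IsLocalRing.closedPoint R) := fun y => by
    rw [← Scheme.Hom.comp_apply, hΦpt, Over.comp_left, hR', Scheme.Hom.comp_apply, NeronHD28.closedPt_apply]
  have hη : p (Grp57.unitPt Gk) = (η[G]).left (IsLocalRing.closedPoint R) := by
    have h1 : Φ (R' ≫ η[G]) = η[Gk] := by
      rw [← Hom.one_def, map_one]; exact (MonObj.one_eq_one Gk).symm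
    rw [show Grp57.unitPt Gk = (η[Gk]).left c from rfl, ← h1, hpt]
  have hmem : ∀ y : 𝟙_ (Over (Spec (CommRingCat.of R))) ⟶ G,
      y ∈ SGA7.secUnitComp R G ↔ (Φ (R' ≫ y)).left c ∈ connectedComponent (Grp57.unitPt Gk) := fun y => by
    show y.left (IsLocalRing.closedPoint R) ∈ connectedComponentIn _ _ ↔ _
    rw [← hpr, ← hη, ← image_connectedComponent hpemb, ← hpt]
    exact hpemb.injective.mem_set_image
  obtain ⟨z, hzC, hz⟩ := exists_root_in_component Gk n hn (Φ (R' ≫ x ^ n)) ((hmem _).1 hx)
  obtain ⟨w, hw⟩ := hΦsurj (Φ (R' ≫ x) * z⁻¹)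
  have hwn : w ^ n = 1 := hΦinj (by
    rw [map_pow, hw, map_one, mul_pow, inv_pow, hz, MonObj.comp_pow, map_pow, mul_inv_cancel])
  let i : Over.mk q ⟶ (Over.map q).obj P := Over.homMk (𝟙 _) (by
    show 𝟙 _ ≫ (𝟙 _ ≫ q) = q
    rw [Category.id_comp, Category.id_comp])
  have hu : IsUnit (n : R) := by rw [← IsLocalRing.residue_ne_zero_iff_isUnit, map_natCast]; exact hn
  obtain ⟨σ, ⟨hσn, hσ⟩, -⟩ := NeronHD28.existsUnique_torsion_lift G n hu (i ≫ w) (by
    rw [← MonObj.comp_pow, hwn, MonObj.comp_one])
  refine ⟨σ, hσn, (hmem _).2 ?_⟩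
  have hRσ : R' ≫ σ = w := by
    ext : 1
    have h := congrArg CommaMorphism.left hσ
    rw [Over.comp_left, hR']
    exact h.trans (Category.id_comp _)
  rw [MonObj.comp_mul, GrpObj.comp_inv, map_mul, map_inv, hRσ, hw, mul_inv_rev, inv_inv, mul_comm z,
    mul_inv_cancel_left]
  exact hzC

end Groth.Agent.Comp38
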