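import Groth.Prelude.Def_SGA7IX
import Mathlib

/-! Néron models of abelian varieties are commutative. -/

set_option autoImplicit false
universe u

open CategoryTheory CategoryTheory.Limits MonoidalCategory CartesianMonoidalCategory MonObj AlgebraicGeometry

namespace Groth.Agent.Comp38

theorem isCommMonObj_of_isNeron (R K : Type u) [CommRing R] [Field K] [Algebra R K]
    (N : Over (Spec (CommRingCat.of R))) [GrpObj N] (hN : SGA7.IsNeron R K N)
    [IsProper ((SGA7.genFib R K).obj N).hom] [GeometricallyIntegral ((SGA7.genFib R K).obj N).hom] :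
    IsCommMonObj N := by
  let F := SGA7.genFib R K
  have : IsCommMonObj (F.obj N) := isCommMonObj_of_isProper_of_geometricallyIntegral _
  have hs : Smooth N.hom := hN.1
  have : Smooth (N ⊗ N).hom := inferInstanceAs (Smooth (pullback.fst N.hom N.hom ≫ N.hom))
  refine ⟨(hN.2.2.2 (N ⊗ N) this).1 ?_⟩
  show F.map ((β_ N N).hom ≫ μ[N]) = F.map μ[N]
  have h : (β_ (F.obj N) (F.obj N)).hom ≫ μ[F.obj N] = μ[F.obj N] := IsCommMonObj.mul_comm _
  rw [Functor.obj.μ_def, ← Functor.LaxBraided.braided_assoc] at h
  rw [Functor.map_comp]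
  exact (cancel_epi (Functor.LaxMonoidal.μ F N N)).1 h

end Groth.Agent.Comp38
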